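import Cfsg.Agent.RealSizes.Basic
import Cfsg.Agent.S3861

/-!
# Disconnected prime graph on real class sizes

If the primes dividing real class sizes split into two parts with no edge between them, some real
class has even size; and when the group is solvable, either the Sylow 2-subgroup is normal or the
subgroup generated by the 2-elements has the same property, each of its real class sizes being
odd or a power of two.
-/

set_option autoImplicit false

namespace Cfsg.Agent.RealSizes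

open Subgroup

/-- The sizes of the real classes. -/
def Sizes (G : Type*) [Group G] : Set ℕ :=
  {n : ℕ | ∃ x : G, IsConj x x⁻¹ ∧ (centralizer ({x} : Set G)).index = n}

/-- A splitting of the primes of real class sizes with no edge across. -/
structure Split (G : Type*) [Group G] (π₁ π₂ : Set ℕ) : Prop where
  ne₁ : π₁.Nonempty
  ne₂ : π₂.Nonempty
  disj : Disjoint π₁ π₂
  isSize : ∀ q ∈ π₁ ∪ π₂, q.Prime ∧ ∃ n ∈ Sizes G, q ∣ n
  cover : ∀ q : ℕ, q.Prime → (∃ n ∈ Sizes G, q ∣ n) → q ∈ π₁ ∨ q ∈ π₂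
  noEdge : ∀ a ∈ π₁, ∀ b ∈ π₂, ∀ n ∈ Sizes G, ¬ (a ∣ n ∧ b ∣ n)

variable {G : Type*} [Group G] {π₁ π₂ : Set ℕ}

theorem Split.symm (h : Split G π₁ π₂) : Split G π₂ π₁ where
  ne₁ := h.ne₂
  ne₂ := h.ne₁
  disj := h.disj.symm
  isSize q hq := h.isSize q (Or.symm hq)
  cover q hq h' := Or.symm (h.cover q hq h')
  noEdge a ha b hb n hn e := h.noEdge b hb a ha n hn ⟨e.2, e.1⟩

/-- Some real class has even size. -/
theorem Split.exists_even [Finite G] (h : Split G π₁ π₂) : ∃ n ∈ Sizes G, 2 ∣ n := by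
  by_contra! hno
  have hsq : ∀ x : G, IsConj x x⁻¹ → x ^ 2 = 1 := fun x hx => by
    by_contra hne
    exact hno _ ⟨x, hx, rfl⟩ (two_dvd_index_of_real hx hne)
  have hreal : ∀ u : G, u ^ 2 = 1 → IsConj u u⁻¹ := fun u hu => by
    rw [inv_eq_of_mul_eq_one_right (by rw [← pow_two, hu] : u * u = 1)]
  have hcomm : ∀ u v : G, u ^ 2 = 1 → v ^ 2 = 1 → IsConj (u * v) (u * v)⁻¹ ∧ Commute u v := by
    intro u v hu hv
    have hu' : u⁻¹ = u := inv_eq_of_mul_eq_one_right (by rw [← pow_two, hu])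
    have hv' : v⁻¹ = v := inv_eq_of_mul_eq_one_right (by rw [← pow_two, hv])
    have hr : IsConj (u * v) (u * v)⁻¹ := isConj_iff.2 ⟨u, by
      rw [mul_inv_rev, hu', hv', ← mul_assoc u u v, ← pow_two, hu, one_mul]⟩
    have h2 : (u * v)⁻¹ = u * v := inv_eq_of_mul_eq_one_right (by rw [← pow_two, hsq _ hr])
    refine ⟨hr, ?_⟩
    rw [mul_inv_rev, hu', hv'] at h2
    exact h2.symm
  obtain ⟨q₁, hq₁⟩ := h.ne₁
  obtain ⟨q₂, hq₂⟩ := h.ne₂
  obtain ⟨p₁, _, ⟨u, hu, rfl⟩, hd₁⟩ := h.isSize q₁ (Or.inl hq₁)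
  obtain ⟨p₂, _, ⟨v, hv, rfl⟩, hd₂⟩ := h.isSize q₂ (Or.inr hq₂)
  have hu2 := hsq u hu
  have hv2 := hsq v hv
  have hoddI : ∀ x : G, IsConj x x⁻¹ → Odd (centralizer ({x} : Set G)).index := fun x hx =>
    Nat.not_even_iff_odd.1 fun e => hno _ ⟨x, hx, rfl⟩ e.two_dvd
  have hone : ∀ (x : G) (q : ℕ), q.Prime → q ∣ (centralizer ({x} : Set G)).index →
      1 < (centralizer ({x} : Set G)).index := fun x q hq hd =>
    lt_of_lt_of_le hq.one_lt (Nat.le_of_dvd (Nat.pos_of_ne_zero index_ne_zero_of_finite) hd)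
  have hco : (centralizer ({u} : Set G)).index.Coprime (centralizer ({v} : Set G)).index := by
    refine Nat.coprime_of_dvd fun p hp hpu hpv => ?_
    rcases h.cover p hp ⟨_, ⟨u, hu, rfl⟩, hpu⟩ with hp' | hp'
    · exact h.noEdge p hp' q₂ hq₂ _ ⟨v, hv, rfl⟩ ⟨hpv, hd₂⟩
    · exact h.noEdge q₁ hq₁ p hp' _ ⟨u, hu, rfl⟩ ⟨hd₁, hpu⟩
  have hinv : ∀ w : G, w ^ 2 = 1 → ∀ w' : G, IsConj w w' → Commute w w' ∧ w' ^ 2 = 1 := by
    intro w hw w' hw'
    obtain ⟨g, rfl⟩ := isConj_iff.1 hw'
    have : (g * w * g⁻¹) ^ 2 = 1 := by rw [conj_pow, hw]; group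
    exact ⟨(hcomm w _ hw this).2, this⟩
  obtain ⟨hr, huv⟩ := hcomm u v hu2 hv2
  set n := (centralizer ({u * v} : Set G)).index with hn
  -- `n` divides the product of the two sizes
  have hdvd : n ∣ (centralizer ({u} : Set G)).index * (centralizer ({v} : Set G)).index := by
    have hle : centralizer ({u} : Set G) ⊓ centralizer ({v} : Set G) ≤ centralizer ({u * v} : Set G) := by
      rintro g ⟨hgu, hgv⟩
      replace hgu : g * u = u * g := mem_centralizer_singleton_iff.1 hgu
      replace hgv : g * v = v * g := mem_centralizer_singleton_iff.1 hgv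
      rw [mem_centralizer_singleton_iff, ← mul_assoc, hgu, mul_assoc, hgv, ← mul_assoc]
    refine (index_dvd_of_le hle).trans ?_
    set A := centralizer ({u} : Set G)
    set B := centralizer ({v} : Set G)
    rw [← relIndex_mul_index (inf_le_left : A ⊓ B ≤ A), inf_relIndex_left, mul_comm A.index]
    refine Nat.mul_dvd_mul_right ?_ _
    -- for coprime indices the relative index is the index
    have hmap : ∀ g : G, ∃ a ∈ A, ∃ b ∈ B, g = a * b := exists_mul_of_coprime hco
    let f : A ⧸ B.subgroupOf A → G ⧸ B :=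
      Quotient.lift (fun a : A => QuotientGroup.mk (s := B) (a : G)) fun a a' haa => by
        rw [QuotientGroup.eq]
        exact mem_subgroupOf.1 (QuotientGroup.leftRel_apply.1 haa)
    have hsurj : Function.Surjective f := fun p => by
      induction p using QuotientGroup.induction_on with
      | H g =>
        obtain ⟨a, ha, b, hb, rfl⟩ := hmap g
        exact ⟨QuotientGroup.mk ⟨a, ha⟩, QuotientGroup.eq.2 (by simpa using hb)⟩
    have hinj : Function.Injective f := fun p q => by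
      induction p using QuotientGroup.induction_on with
      | H a =>
        induction q using QuotientGroup.induction_on with
        | H a' =>
          intro e
          rw [QuotientGroup.eq, mem_subgroupOf]
          exact QuotientGroup.eq.1 e
    exact (Nat.card_congr (Equiv.ofBijective f ⟨hinj, hsurj⟩)).dvd
  have hpos : ∀ x : G, 0 < (centralizer ({x} : Set G)).index := fun x =>
    Nat.pos_of_ne_zero index_ne_zero_of_finite
  by_cases hside : ∃ b ∈ π₂, b ∣ n
  · -- the size of the product lies on the side of `v`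
    obtain ⟨b, hb, hbn⟩ := hside
    have hcop : n.Coprime (centralizer ({u} : Set G)).index := by
      refine Nat.coprime_of_dvd fun p hp hpn hpu => ?_
      rcases h.cover p hp ⟨_, ⟨u, hu, rfl⟩, hpu⟩ with hp' | hp'
      · exact h.noEdge p hp' b hb _ ⟨u * v, hr, rfl⟩ ⟨hpn, hbn⟩
      · exact h.noEdge q₁ hq₁ p hp' _ ⟨u, hu, rfl⟩ ⟨hd₁, hpu⟩
    refine not_dvd_of_commuting (hinv u hu2) hco.symm (hoddI v hv)
      (hone u q₁ (h.isSize q₁ (Or.inl hq₁)).1 hd₁) ?_
    rw [← huv.eq]
    exact Nat.le_of_dvd (hpos v) (hcop.dvd_of_dvd_mul_left hdvd)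
  · have hcop : n.Coprime (centralizer ({v} : Set G)).index := by
      refine Nat.coprime_of_dvd fun p hp hpn hpv => hside ⟨p, ?_, hpn⟩
      rcases h.cover p hp ⟨_, ⟨v, hv, rfl⟩, hpv⟩ with hp' | hp'
      · exact absurd ⟨hpv, hd₂⟩ (h.noEdge p hp' q₂ hq₂ _ ⟨v, hv, rfl⟩)
      · exact hp'
    exact not_dvd_of_commuting (hinv v hv2) hco (hoddI u hu)
      (hone v q₂ (h.isSize q₂ (Or.inr hq₂)).1 hd₂)
      (Nat.le_of_dvd (hpos u) (hcop.dvd_of_dvd_mul_right hdvd))

/-- The subgroup generated by the 2-elements. -/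
def twoClosure (G : Type*) [Group G] : Subgroup G :=
  Subgroup.closure {g : G | ∃ k : ℕ, orderOf g = 2 ^ k}

instance twoClosure_normal (G : Type*) [Group G] : (twoClosure G).Normal := by
  refine ⟨fun k hk g => ?_⟩
  refine closure_induction (fun x hx => ?_) (by simp [one_mem]) (fun x y _ _ hx hy => ?_)
    (fun x _ hx => ?_) hk
  · obtain ⟨j, hj⟩ := hx
    exact subset_closure ⟨j, by
      rw [← hj]; exact orderOf_injective (MulAut.conj g).toMonoidHom (MulAut.conj g).injective x⟩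
  · rw [show g * (x * y) * g⁻¹ = (g * x * g⁻¹) * (g * y * g⁻¹) by group]
    exact mul_mem hx hy
  · rw [show g * x⁻¹ * g⁻¹ = (g * x * g⁻¹)⁻¹ by group]
    exact inv_mem hx

/-- The class size in a normal subgroup divides the class size in the group. -/
theorem index_centralizer_dvd [Finite G] (H : Subgroup G) [H.Normal] (x : H) :
    (centralizer ({x} : Set H)).index ∣ (centralizer ({(x : G)} : Set G)).index := by
  set C := centralizer ({(x : G)} : Set G)
  have e : centralizer ({x} : Set H) = C.subgroupOf H := by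
    ext y
    simp [C, mem_subgroupOf, mem_centralizer_singleton_iff, Subtype.ext_iff]
  rw [e]
  change C.relIndex H ∣ C.index
  have h1 : (C ⊓ H).index = C.relIndex H * H.index := by
    rw [← relIndex_mul_index (inf_le_right : C ⊓ H ≤ H), inf_relIndex_right]
  have h2 : (C ⊓ H).index = H.relIndex C * C.index := by
    rw [← relIndex_mul_index (inf_le_left : C ⊓ H ≤ C), inf_relIndex_left]
  obtain ⟨m, hm⟩ := relIndex_dvd_index_of_normal H C
  have hpos : 0 < H.relIndex C := Nat.pos_of_ne_zero fun e0 =>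
    H.index_ne_zero_of_finite (by rw [hm, e0, zero_mul])
  refine ⟨m, Nat.eq_of_mul_eq_mul_left hpos ?_⟩
  rw [← h2, h1, hm]
  ring

/-- The structure when 2 lies on the first side. -/
theorem Split.two_closure [Finite G] (h : Split G π₁ π₂) (h2 : 2 ∈ π₁)
    (hsol : Group.IsSolvable G) :
    (∀ P : Sylow 2 G, (P : Subgroup G).Normal) ∨
      ((∃ σ₁ σ₂ : Set ℕ, Split ↥(twoClosure G) σ₁ σ₂) ∧
        ∀ n ∈ Sizes ↥(twoClosure G), Odd n ∨ ∃ j : ℕ, n = 2 ^ j) := by
  classical
  haveI : Fact (Nat.Prime 2) := ⟨Nat.prime_two⟩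
  by_cases hN : ∀ P : Sylow 2 G, (P : Subgroup G).Normal
  · exact Or.inl hN
  right
  push_neg at hN
  obtain ⟨P₀, hP₀⟩ := hN
  -- the involution with class size on the second side
  obtain ⟨q, hq⟩ := h.ne₂
  obtain ⟨hqp, _, ⟨t, ht, rfl⟩, hdt⟩ := h.isSize q (Or.inr hq)
  set C := centralizer ({t} : Set G) with hC
  have hCodd : ¬ 2 ∣ C.index := fun e => h.noEdge 2 h2 q hq _ ⟨t, ht, rfl⟩ ⟨e, hdt⟩
  have ht2 : t ^ 2 = 1 := by
    by_contra e
    exact hCodd (two_dvd_index_of_real ht e)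
  have htinv : t⁻¹ = t := inv_eq_of_mul_eq_one_right (by rw [← pow_two, ht2])
  have htC : t ∈ C := mem_centralizer_singleton_iff.2 rfl
  have hsqne : ∀ x : G, x ≠ 1 → Odd (orderOf x) → x ^ 2 ≠ 1 := fun x hx hodd e => by
    rcases (Nat.dvd_prime Nat.prime_two).1 (orderOf_dvd_of_pow_eq_one e) with h' | h'
    · exact hx (orderOf_eq_one_iff.1 h')
    · rw [h'] at hodd; exact absurd hodd (by decide)
  -- its centraliser has a normal Sylow 2-subgroup
  let Q₀ : Sylow 2 C := Sylow.nonempty.some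
  have hQ₀ : (Q₀ : Subgroup C).Normal := by
    refine (S3861.result Q₀).1 fun x hx hodd hr => ?_
    obtain ⟨c, hc⟩ := isConj_iff.1 hr
    have hc' : (c : G) * x * (c : G)⁻¹ = (x : G)⁻¹ := by simpa using congrArg Subtype.val hc
    have hct : (c : G) * t = t * c := mem_centralizer_singleton_iff.1 c.2
    have hxt : (x : G) * t = t * x := mem_centralizer_singleton_iff.1 x.2
    have hxodd : Odd (orderOf (x : G)) := by rwa [orderOf_coe]
    have hx1 : (x : G) ≠ 1 := fun e => hx (Subtype.ext e)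
    have hy : IsConj ((x : G) * t) ((x : G) * t)⁻¹ := isConj_iff.2 ⟨c, by
      calc (c : G) * ((x : G) * t) * (c : G)⁻¹
          = ((c : G) * x * (c : G)⁻¹) * ((c : G) * t * (c : G)⁻¹) := by group
        _ = (x : G)⁻¹ * t := by rw [hc', hct, mul_inv_cancel_right]
        _ = ((x : G) * t)⁻¹ := by
          rw [hxt, mul_inv_rev, htinv]⟩
    have hsq : ((x : G) * t) ^ 2 = (x : G) ^ 2 := by
      rw [(show Commute (x : G) t from hxt).mul_pow, ht2, mul_one]
    obtain ⟨i, hi⟩ := exists_pow_eq_self_of_coprime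
      (show Nat.Coprime 2 (orderOf (x : G)) from Nat.coprime_two_left.2 hxodd)
    have hlex : centralizer ({(x : G) * t} : Set G) ≤ centralizer ({(x : G)} : Set G) := by
      intro g hg
      rw [mem_centralizer_singleton_iff] at hg ⊢
      have hgc : Commute g (((x : G) * t) ^ 2) := (show Commute g ((x : G) * t) from hg).pow_right 2
      rw [hsq] at hgc
      have := hgc.pow_right i
      rwa [hi] at this
    have hlet : centralizer ({(x : G) * t} : Set G) ≤ C := by
      intro g hg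
      have hgx : Commute g (x : G) := mem_centralizer_singleton_iff.1 (hlex hg)
      rw [hC, mem_centralizer_singleton_iff]
      have hgy : Commute g ((x : G) * t) := mem_centralizer_singleton_iff.1 hg
      have := hgx.inv_right.mul_right hgy
      rwa [← mul_assoc, inv_mul_cancel, one_mul] at this
    refine h.noEdge 2 h2 q hq _ ⟨(x : G) * t, hy, rfl⟩ ⟨?_, hdt.trans (index_dvd_of_le hlet)⟩
    exact (two_dvd_index_of_real (x := (x : G)) (isConj_iff.2 ⟨c, hc'⟩) (hsqne _ hx1 hxodd)).trans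
      (index_dvd_of_le hlex)
  have hQp : IsPGroup 2 ((Q₀ : Subgroup C).map C.subtype) := Q₀.isPGroup'.map _
  have hQi : ¬ 2 ∣ ((Q₀ : Subgroup C).map C.subtype).index := by
    rw [index_map_subtype, Nat.prime_two.dvd_mul]
    rintro (e | e)
    · exact Q₀.not_dvd_index e
    · exact hCodd e
  let P : Sylow 2 G := hQp.toSylow hQi
  have hPC : (P : Subgroup G) ≤ C := map_subtype_le _
  have hCP : C ≤ normalizer ((P : Subgroup G) : Set G) := by
    intro g hg
    rw [mem_normalizer_iff]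
    intro y
    constructor
    · rintro ⟨w, hw, rfl⟩
      exact ⟨_, hQ₀.conj_mem w hw ⟨g, hg⟩, rfl⟩
    · rintro ⟨w, hw, e⟩
      refine ⟨⟨g, hg⟩⁻¹ * w * ⟨g, hg⟩, ?_, ?_⟩
      · have := hQ₀.conj_mem w hw ⟨g, hg⟩⁻¹
        rw [inv_inv] at this
        exact this
      · simp only [map_mul, map_inv, coe_subtype] at e ⊢
        rw [e]; group
  set H := twoClosure G with hH
  have hmemH : ∀ g : G, (∃ k : ℕ, orderOf g = 2 ^ k) → g ∈ H := fun g hg => subset_closure hg
  have htwo : ∀ (Q : Sylow 2 G), (Q : Subgroup G) ≤ H := fun Q g hg => by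
    obtain ⟨k, hk⟩ := IsPGroup.iff_orderOf.1 Q.isPGroup' ⟨g, hg⟩
    exact hmemH g ⟨k, by rwa [← orderOf_coe] at hk⟩
  have htH : t ∈ H := hmemH t (by
    obtain ⟨j, -, hj⟩ := (Nat.dvd_prime_pow Nat.prime_two).1
      (show orderOf t ∣ 2 ^ 1 by rw [pow_one]; exact orderOf_dvd_of_pow_eq_one ht2)
    exact ⟨j, hj⟩)
  -- the odd primes of the first side do not divide the order of `H`
  have hnd : ∀ r ∈ π₁, r ≠ 2 → ¬ r ∣ Nat.card H := by
    intro r hr hr2
    haveI : Fact r.Prime := ⟨(h.isSize r (Or.inl hr)).1⟩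
    refine not_dvd_card_of_normalizes r hr2 _ ↥H rfl inferInstance ?_ fun R => ?_
    · rw [eq_top_iff]
      intro x _
      have hx : (x : G) ∈ (Subgroup.closure {g : ↥H | ∃ k : ℕ, orderOf g = 2 ^ k}).map H.subtype := by
        rw [MonoidHom.map_closure]
        refine closure_le _ |>.2 ?_ x.2
        rintro g ⟨k, hk⟩
        refine subset_closure ⟨⟨g, hmemH g ⟨k, hk⟩⟩, ⟨k, ?_⟩, rfl⟩
        rw [← hk, ← orderOf_coe]
      obtain ⟨y, hy, e⟩ := hx
      exact Subtype.ext e ▸ hy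
    · let R₁ : Sylow r C := Sylow.nonempty.some
      have hR₁ : ¬ r ∣ ((R₁ : Subgroup C).map C.subtype).index := by
        rw [index_map_subtype, (Fact.out : r.Prime).dvd_mul]
        rintro (e | e)
        · exact R₁.not_dvd_index e
        · exact h.noEdge r hr q hq _ ⟨t, ht, rfl⟩ ⟨e, hdt⟩
      let R₂ : Sylow r G := (R₁.isPGroup'.map C.subtype).toSylow hR₁
      have hR₂ : (R₂ : Subgroup G) ≤ normalizer ((P : Subgroup G) : Set G) :=
        (map_subtype_le _).trans hCP
      obtain ⟨R₃, hR₃⟩ := (R.isPGroup'.map H.subtype).exists_le_sylow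
      obtain ⟨g, hg⟩ := MulAction.exists_smul_eq G R₂ R₃
      let P' : Sylow 2 G := g • P
      refine ⟨P'.subtype (htwo P'), fun a ha => ?_⟩
      have haR : (a : G) ∈ ((g • R₂ : Sylow r G) : Subgroup G) := hg ▸ hR₃ ⟨a, ha, rfl⟩
      rw [Sylow.coe_subgroup_smul, mem_pointwise_smul_iff_inv_smul_mem] at haR
      have hn := mem_normalizer_iff.1 (hR₂ haR)
      rw [Sylow.coe_subtype, mem_normalizer_iff]
      intro b
      simp only [mem_subgroupOf, Subgroup.coe_mul, Subgroup.coe_inv, P', Sylow.coe_subgroup_smul,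
        mem_pointwise_smul_iff_inv_smul_mem]
      have := hn (((MulAut.conj g)⁻¹ • (b : G)))
      simpa [MulAut.smul_def, mul_assoc] using this
  -- real class sizes of `H`
  have hrealH : ∀ x : ↥H, IsConj x x⁻¹ → IsConj (x : G) (x : G)⁻¹ := fun x hx => by
    simpa using H.subtype.map_isConj hx
  have hshape : ∀ n ∈ Sizes ↥H, Odd n ∨ ∃ j : ℕ, n = 2 ^ j := by
    rintro n ⟨x, hx, rfl⟩
    set m := (centralizer ({x} : Set ↥H)).index
    by_cases hev : 2 ∣ m
    · refine Or.inr ⟨m.primeFactorsList.length, Nat.eq_prime_pow_of_unique_prime_dvd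
        index_ne_zero_of_finite fun {r} hr hrm => ?_⟩
      by_contra hr2
      have hxr := hrm.trans (index_centralizer_dvd H x)
      rcases h.cover r hr ⟨_, ⟨x, hrealH x hx, rfl⟩, hxr⟩ with hr' | hr'
      · exact hnd r hr' hr2 (hrm.trans (index_dvd_card _))
      · exact h.noEdge 2 h2 r hr' _ ⟨x, hrealH x hx, rfl⟩
          ⟨hev.trans (index_centralizer_dvd H x), hxr⟩
    · exact Or.inl (Nat.odd_iff.2 (Nat.two_dvd_ne_zero.1 hev))
  refine ⟨⟨{2}, {r | r.Prime ∧ r ≠ 2 ∧ ∃ n ∈ Sizes ↥H, r ∣ n}, ?_⟩, hshape⟩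
  have hev : ∃ n ∈ Sizes ↥H, 2 ∣ n := by
    obtain ⟨x, hx, hxodd, hr⟩ : ∃ x : G, x ≠ 1 ∧ Odd (orderOf x) ∧ IsConj x x⁻¹ := by
      by_contra! hno
      exact hP₀ ((S3861.result P₀).1 hno)
    have hxH : x ∈ H := by
      rw [← QuotientGroup.eq_one_iff (N := H)]
      by_contra hne
      have hev := Invol.even_card_of_real (G := G ⧸ H) hne (by
        have := (QuotientGroup.mk' H).map_isConj hr
        simpa using this)
      exact P₀.not_dvd_index (hev.two_dvd.trans (index_dvd_of_le (htwo P₀)))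
    obtain ⟨c, hc⟩ := isConj_iff.1 hr
    obtain ⟨a, m, hm, he⟩ := Nat.exists_eq_two_pow_mul_odd (orderOf_pos c).ne'
    have hcm : ∀ j : ℕ, c ^ j * x * (c ^ j)⁻¹ = if Even j then x else x⁻¹ := by
      intro j
      induction j with
      | zero => simp
      | succ j ih =>
        rw [pow_succ', show c * c ^ j * x * (c * c ^ j)⁻¹ = c * (c ^ j * x * (c ^ j)⁻¹) * c⁻¹ by group,
          ih]
        by_cases hj : Even j
        · rw [if_pos hj, if_neg (by rwa [Nat.even_add_one, not_not]), hc]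
        · rw [if_neg hj, if_pos (Nat.even_add_one.2 hj),
            show c * x⁻¹ * c⁻¹ = (c * x * c⁻¹)⁻¹ by group, hc, inv_inv]
    have hinv : c ^ m * x * (c ^ m)⁻¹ = x⁻¹ := by
      rw [hcm, if_neg (Nat.not_even_iff_odd.2 hm)]
    have hcH : c ^ m ∈ H := by
      refine hmemH _ ⟨a, ?_⟩
      rw [orderOf_pow, he, Nat.gcd_eq_right (Dvd.intro_left _ rfl),
        Nat.mul_div_cancel _ hm.pos]
    refine ⟨_, ⟨⟨x, hxH⟩, isConj_iff.2 ⟨⟨c ^ m, hcH⟩, Subtype.ext hinv⟩, rfl⟩,
      two_dvd_index_of_real (isConj_iff.2 ⟨⟨c ^ m, hcH⟩, Subtype.ext hinv⟩) fun e => ?_⟩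
    exact hsqne x hx hxodd (congrArg Subtype.val e)
  refine
    { ne₁ := ⟨2, rfl⟩
      ne₂ := ?_
      disj := Set.disjoint_singleton_left.2 fun e => e.2.1 rfl
      isSize := ?_
      cover := fun r hr hn => ?_
      noEdge := ?_ }
  · set m := (centralizer ({(⟨t, htH⟩ : ↥H)} : Set ↥H)).index with hm
    have hm1 : m ≠ 1 := by
      intro e
      rw [index_eq_one] at e
      apply hP₀
      have hHC : H ≤ C := fun g hg => by
        have := mem_centralizer_singleton_iff.1 (e ▸ mem_top (⟨g, hg⟩ : ↥H))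
        rw [hC, mem_centralizer_singleton_iff]
        exact congrArg Subtype.val this
      have huniq : ∀ Q : Sylow 2 G, (Q : Subgroup G) = P := fun Q => by
        have hsup : IsPGroup 2 ((Q : Subgroup G) ⊔ P : Subgroup G) :=
          Q.isPGroup'.to_sup_of_normal_right' P.isPGroup' ((htwo Q).trans (hHC.trans hCP))
        have h1 := P.3 hsup le_sup_right
        exact (Q.3 P.isPGroup' (le_sup_left.trans h1.le)).symm
      refine ⟨fun a ha g => ?_⟩
      have := huniq (g • P₀)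
      rw [← huniq P₀, Sylow.coe_subgroup_smul] at this
      rw [← this]
      exact smul_mem_pointwise_smul a (MulAut.conj g) _ ha
    obtain ⟨r, hr, hrm⟩ := Nat.exists_prime_and_dvd hm1
    have hrt : r ∣ C.index := hrm.trans (index_centralizer_dvd H ⟨t, htH⟩)
    refine ⟨r, hr, fun e => hCodd (e ▸ hrt), m, ⟨⟨t, htH⟩, ?_, rfl⟩, hrm⟩
    rw [show (⟨t, htH⟩ : ↥H)⁻¹ = ⟨t, htH⟩ from Subtype.ext htinv]
  · rintro r (rfl | ⟨hr, -, hn⟩)
    · exact ⟨Nat.prime_two, hev⟩
    · exact ⟨hr, hn⟩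
  · by_cases hr2 : r = 2
    · exact Or.inl hr2
    · exact Or.inr ⟨hr, hr2, hn⟩
  · rintro a rfl b ⟨hb, hb2, -⟩ n hn ⟨han, hbn⟩
    rcases hshape n hn with ho | ⟨j, rfl⟩
    · exact Nat.not_even_iff_odd.2 ho (even_iff_two_dvd.2 han)
    · exact hb2 ((Nat.prime_dvd_prime_iff_eq hb Nat.prime_two).1 (hb.dvd_of_dvd_pow hbn))

/-- The full structure statement. -/
theorem Split.structure_of_solvable [Finite G] (h : Split G π₁ π₂) (hsol : Group.IsSolvable G) :
    (∀ P : Sylow 2 G, (P : Subgroup G).Normal) ∨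
      ((∃ σ₁ σ₂ : Set ℕ, Split ↥(twoClosure G) σ₁ σ₂) ∧
        ∀ n ∈ Sizes ↥(twoClosure G), Odd n ∨ ∃ j : ℕ, n = 2 ^ j) := by
  obtain ⟨n, hn, h2⟩ := h.exists_even
  rcases h.cover 2 Nat.prime_two ⟨n, hn, h2⟩ with h' | h'
  · exact h.two_closure h' hsol
  · exact h.symm.two_closure h' hsol

end Cfsg.Agent.RealSizes
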